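import Groth.Agent.Pic13.H17.Patch
import Groth.Prelude.Def_CohB1
import Groth.Prelude.Def_BlowUp2
import Mathlib.AlgebraicGeometry.Geometrically.Integral
import Mathlib.AlgebraicGeometry.Morphisms.Proper
import Mathlib.AlgebraicGeometry.Morphisms.Flat
import Mathlib.AlgebraicGeometry.Noetherian

/-!
# The rules of the relative geometric induction

`Rules P`: the closure properties of a property `P` of proper morphisms over affine Noetherian integral schemes from
which `P f` follows for every proper `f` over an affine Noetherian integral scheme.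
-/

set_option autoImplicit false
universe u

open CategoryTheory CategoryTheory.Limits AlgebraicGeometry

namespace Groth.Agent.Pic13.H595.Geo

open Groth.Agent.Pic13.H17.Patch

/-- The rules of the relative geometric induction. -/
structure Rules (P : MorphismProperty Scheme.{u}) : Prop where
  iso : ∀ {X X' S : Scheme.{u}} (e : X' ⟶ X) (f : X ⟶ S) [IsAffine S] [IsNoetherian S] [IsIntegral S]
    [IsProper f] [IsIso e], P (e ≫ f) → P f
  shrink : ∀ {X S : Scheme.{u}} (f : X ⟶ S) [IsAffine S] [IsNoetherian S] [IsIntegral S] [IsProper f]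
    (V : S.Opens), (V : Set S).Nonempty → IsAffineOpen V → P (pullback.snd f V.ι) → P f
  empty : ∀ {X S : Scheme.{u}} (f : X ⟶ S) [IsAffine S] [IsNoetherian S] [IsIntegral S] [IsEmpty X], P f
  coprod : ∀ {X Y S : Scheme.{u}} (f : X ⟶ S) (g : Y ⟶ S) [IsAffine S] [IsNoetherian S] [IsIntegral S]
    [IsProper f] [IsProper g], P f → P g → P (coprod.desc f g)
  nil : ∀ {X₀ X S : Scheme.{u}} (i : X₀ ⟶ X) (f : X ⟶ S) [IsAffine S] [IsNoetherian S] [IsIntegral S]
    [IsProper f] [IsClosedImmersion i], i.ker ^ 2 = ⊥ → P (i ≫ f) → P f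
  ext : ∀ {X S S' : Scheme.{u}} (f : X ⟶ S) (g : S' ⟶ S) [IsAffine S] [IsNoetherian S] [IsIntegral S]
    [IsAffine S'] [IsNoetherian S'] [IsIntegral S'] [IsProper f] [IsFinite g] [Flat g] [Surjective g],
    P (pullback.snd f g) → P f
  sq : ∀ {X' X S : Scheme.{u}} (b : X' ⟶ X) (f : X ⟶ S) (I : X.IdealSheafData) [IsAffine S]
    [IsNoetherian S] [IsIntegral S] [IsProper f] [IsProper b], IsPatch b I →
    (IsFinite b ∨ BlowUp.IsEffCartierIdeal (I.comap b)) →
    P (I.subschemeι ≫ f) → P ((I.comap b).subschemeι ≫ b ≫ f) → P (b ≫ f) → P f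
  base : ∀ {X S : Scheme.{u}} (f : X ⟶ S) (n : ℕ) (i : X ⟶ CohB1.ProjSpaceOver n S) [IsAffine S]
    [IsNoetherian S] [IsIntegral S] [IsClosedImmersion i] [IsProper f] [Flat f] [GeometricallyIntegral f],
    i ≫ CohB1.ProjSpaceOver.toBase n S = f → P f

end Groth.Agent.Pic13.H595.Geo
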