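import Groth.Agent.Sga4h.GeoDim2
import Mathlib.AlgebraicGeometry.Morphisms.Finite

/-!
# The measure of the relative geometric induction

`GDimLT f n`: all residue field extensions of `f` over the generic point have transcendence degree less than `n`.
-/

set_option autoImplicit false
universe u

open CategoryTheory CategoryTheory.Limits AlgebraicGeometry

namespace Groth.Agent.Pic13.H595.GeoMeas

open Groth.Agent.Sga4h.GeoDim

variable {X Y Z S : Scheme.{u}}

/-- The generic fibre of `f` has dimension less than `n`. -/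
def GDimLT [IrreducibleSpace S] (f : X ⟶ S) (n : ℕ) : Prop :=
  ∀ x : X, f x = genericPoint S → trdegAt f x < (n : Cardinal.{u})

theorem GDimLT.ne [IrreducibleSpace S] {f : X ⟶ S} (h : GDimLT f 0) (x : X) :
    f x ≠ genericPoint S := fun hx => by
  have := h x hx
  simp at this

theorem GDimLT.mono [IrreducibleSpace S] {f : X ⟶ S} {m n : ℕ} (h : GDimLT f m) (hmn : m ≤ n) :
    GDimLT f n := fun x hx => (h x hx).trans_le (by exact_mod_cast hmn)

/-- Generizations of points over the generic point are over the generic point. -/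
theorem map_eq_of_specializes [IrreducibleSpace S] (f : X ⟶ S) {x ξ : X} (h : ξ ⤳ x)
    (hx : f x = genericPoint S) : f ξ = genericPoint S := by
  have h1 : f ξ ⤳ genericPoint S := hx ▸ h.map f.continuous
  exact (h1.antisymm ((genericPoint_spec S).specializes trivial)).eq

theorem trdegAt_le_of_specializes [IrreducibleSpace S] (f : X ⟶ S) [LocallyOfFiniteType f] {x ξ : X}
    (h : ξ ⤳ x) (hx : f x = genericPoint S) : trdegAt f x ≤ trdegAt f ξ := by
  by_cases hne : ξ = x
  · subst hne; exact le_rfl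
  · exact (trdegAt_lt_of_specializes f h hne ((map_eq_of_specializes f h hx).trans hx.symm)).le

theorem GDimLT.of_irreducible [IrreducibleSpace S] (f : X ⟶ S) [LocallyOfFiniteType f] [IrreducibleSpace X]
    {n : ℕ} (h : f (genericPoint X) = genericPoint S → trdegAt f (genericPoint X) < (n : Cardinal.{u})) :
    GDimLT f n := by
  intro x hx
  have h1 : genericPoint X ⤳ x := (genericPoint_spec X).specializes trivial
  exact (trdegAt_le_of_specializes f h1 hx).trans_lt (h (map_eq_of_specializes f h1 hx))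

theorem GDimLT.precomp [IrreducibleSpace S] {f : X ⟶ S} {n : ℕ} (h : GDimLT f n) (g : Z ⟶ X)
    (hg : ∀ z, trdegAt g z = 0) : GDimLT (g ≫ f) n := by
  intro z hz
  rw [trdegAt_comp, hg, add_zero]
  exact h _ hz

/-- Change of the base. -/
theorem GDimLT.square [IrreducibleSpace S] {X' S' : Scheme.{u}} [IrreducibleSpace S'] {f : X ⟶ S}
    {n : ℕ} (h : GDimLT f n) (g : X' ⟶ X) (f' : X' ⟶ S') (s : S' ⟶ S)
    (hsq : g ≫ f = f' ≫ s) (hg : ∀ x, trdegAt g x = 0) (hs : ∀ x, trdegAt s x = 0)
    (hgen : s (genericPoint S') = genericPoint S) : GDimLT f' n := by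
  intro x hx
  rw [trdegAt_square g f' f s hsq x (hg x) (hs _)]
  apply h
  rw [← hgen, ← hx, ← Scheme.Hom.comp_apply, ← Scheme.Hom.comp_apply, hsq]

theorem nat_lt_of_lt {a b : Cardinal.{u}} (ha : a < Cardinal.aleph0) (hb : b < Cardinal.aleph0)
    (hab : a < b) {n : ℕ} (hbn : b < (n + 1 : ℕ)) : a < (n : Cardinal.{u}) := by
  obtain ⟨a, rfl⟩ := Cardinal.lt_aleph0.mp ha
  obtain ⟨b, rfl⟩ := Cardinal.lt_aleph0.mp hb
  norm_cast at hab hbn ⊢
  omega

/-- Passing to strict specializations the dimension drops. -/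
theorem GDimLT.drop [IrreducibleSpace S] {f : X ⟶ S} [LocallyOfFiniteType f] {n : ℕ}
    (h : GDimLT f (n + 1)) (g : Z ⟶ X) (hg : ∀ z, trdegAt g z = 0)
    (hz : ∀ z, f (g z) = genericPoint S → ∃ ξ, ξ ⤳ g z ∧ ξ ≠ g z) : GDimLT (g ≫ f) n := by
  intro z hz'
  rw [trdegAt_comp, hg, add_zero]
  obtain ⟨ξ, h1, h2⟩ := hz z hz'
  have hf := map_eq_of_specializes f h1 hz'
  have h3 : trdegAt f (g z) < trdegAt f ξ := trdegAt_lt_of_specializes f h1 h2 (hf.trans hz'.symm)
  exact nat_lt_of_lt (trdegAt_lt_aleph0 f _) (trdegAt_lt_aleph0 f _) h3 (h ξ hf)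

theorem exists_gdimLT [IrreducibleSpace S] (f : X ⟶ S) [LocallyOfFiniteType f] [IsNoetherian X] :
    ∃ n : ℕ, GDimLT f n := by
  classical
  have hfin : (irreducibleComponents X).Finite :=
    TopologicalSpace.NoetherianSpace.finite_irreducibleComponents
  have hex : ∀ x : X, ∃ n : ℕ, trdegAt f x = n := exists_nat_trdegAt f
  choose d hd using hex
  have hgen : ∀ Z : irreducibleComponents X, ∃ ξ : X, IsGenericPoint ξ Z.1 := fun Z =>
    QuasiSober.sober Z.2.1 (isClosed_of_mem_irreducibleComponents _ Z.2)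
  choose g hg using hgen
  have : Finite (irreducibleComponents X) := hfin
  obtain ⟨N, hN⟩ := (Set.finite_range fun Z => d (g Z)).bddAbove
  refine ⟨N + 1, fun x hx => ?_⟩
  let Z : irreducibleComponents X :=
    ⟨irreducibleComponent x, irreducibleComponent_mem_irreducibleComponents x⟩
  have h2 : g Z ⤳ x := (hg Z).specializes mem_irreducibleComponent
  have h3 := trdegAt_le_of_specializes f h2 hx
  have h4 : d (g Z) ≤ N := hN ⟨_, rfl⟩
  refine h3.trans_lt ?_
  rw [hd]
  exact_mod_cast Nat.lt_succ_of_le h4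

theorem trdegAt_eq_zero_of_isIso_restrict (b : Y ⟶ X) (W : X.Opens) [IsIso (b ∣_ W)] (y : Y)
    (hy : b y ∈ W) : trdegAt b y = 0 := by
  let w : (b ⁻¹ᵁ W).toScheme := ⟨y, hy⟩
  have h1 := trdegAt_comp (b ⁻¹ᵁ W).ι b w
  have h2 := trdegAt_comp (b ∣_ W) W.ι w
  rw [morphismRestrict_ι, trdegAt_eq_zero_of_isPreimmersion W.ι,
    trdegAt_eq_zero_of_isPreimmersion (b ∣_ W), add_zero] at h2
  rw [h2] at h1
  have h3 := h1.symm
  rw [add_eq_zero] at h3
  exact h3.1

theorem trdegAt_eq_zero_of_isFinite (f : X ⟶ Y) [IsFinite f] (x : X) : trdegAt f x = 0 :=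
  trdegAt_eq_zero_of_locallyQuasiFinite f x

end Groth.Agent.Pic13.H595.GeoMeas
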