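import Groth.Agent.Pic13.H595.Geo
import Groth.Agent.Pic13.H595.GeoMeas
import Groth.Agent.Fcompl.H545.SysBasic

/-!
# Relative geometric induction: empty generic fibre and nilpotent thickenings
-/

set_option autoImplicit false
universe u

open CategoryTheory CategoryTheory.Limits AlgebraicGeometry

namespace Groth.Agent.Pic13.H595.GeoBasic

open Groth.Agent.Sga4h.GeoDim Groth.Agent.Pic13.H595.GeoMeas Groth.Agent.Pic13.H595.Geo
  Groth.Agent.Divis.IdealComap Groth.Agent.Fcompl.H545.SysBasic

variable {P : MorphismProperty Scheme.{u}}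

/-- Nothing over the generic point. -/
theorem of_gdimLT_zero (hP : Rules P) {X S : Scheme.{u}} (f : X ⟶ S) [IsAffine S] [IsNoetherian S]
    [IsIntegral S] [IsProper f] (h : GDimLT f 0) : P f := by
  have hcl : IsClosed (Set.range f) := f.isClosedMap.isClosed_range
  let U : S.Opens := ⟨(Set.range f)ᶜ, hcl.isOpen_compl⟩
  have hU : genericPoint S ∈ U := by
    rintro ⟨x, hx⟩
    exact h.ne x hx
  obtain ⟨V, hV, hηV, hVU⟩ := exists_isAffineOpen_mem_and_subset hU
  have : IsAffine V := hV
  have : IsNoetherian V := { }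
  have hne : Nonempty V := ⟨⟨_, hηV⟩⟩
  have hem : IsEmpty ↑(pullback f V.ι) := by
    refine ⟨fun p => hVU (pullback.snd f V.ι p).2 ⟨pullback.fst f V.ι p, ?_⟩⟩
    rw [← Scheme.Hom.comp_apply, pullback.condition, Scheme.Hom.comp_apply]
    rfl
  exact hP.shrink f V ⟨_, hηV⟩ hV (hP.empty _)

/-- The ideal of a closed immersion which is bijective on points is locally nilpotent. -/
theorem ideal_le_nilradical {X₀ X : Scheme.{u}} (i : X₀ ⟶ X) [IsClosedImmersion i] [Surjective i]
    (U : X.affineOpens) : i.ker.ideal U ≤ nilradical Γ(X, U.1) := by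
  have h1 : i.ker ≤ X.nilradical := by
    rw [← Scheme.IdealSheafData.vanishingIdeal_top,
      ← Scheme.IdealSheafData.le_support_iff_le_vanishingIdeal]
    intro x _
    have h2 : x ∈ (i.ker.support : Set X) := by
      rw [Scheme.Hom.support_ker]
      obtain ⟨y, rfl⟩ := i.surjective x
      exact subset_closure ⟨y, rfl⟩
    exact h2
  exact h1 U

theorem exists_pow_eq_bot {X : Scheme.{u}} [IsNoetherian X] (I : X.IdealSheafData)
    (hI : ∀ U : X.affineOpens, I.ideal U ≤ nilradical Γ(X, U.1)) : ∃ k : ℕ, ∀ m, k ≤ m → I ^ m = ⊥ := by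
  classical
  have hk : ∀ U : X.affineOpens, ∃ k : ℕ, ∀ m, k ≤ m → (I.ideal U) ^ m = ⊥ := by
    intro U
    have hN : IsNoetherianRing Γ(X, U.1) := IsLocallyNoetherian.component_noetherian U
    obtain ⟨k, hk⟩ := IsNoetherianRing.isNilpotent_nilradical Γ(X, U.1)
    refine ⟨k, fun m hm => ?_⟩
    have h1 : (I.ideal U) ^ k = ⊥ := le_bot_iff.mp ((Ideal.pow_right_mono (hI U) k).trans hk.le)
    exact le_bot_iff.mp ((Ideal.pow_le_pow_right hm).trans h1.le)
  choose k hk using hk
  obtain ⟨t, ht⟩ := (isCompact_univ (X := X)).elim_finite_subcover (fun U : X.affineOpens => (U.1 : Set X))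
    (fun U => U.1.2) (fun x _ => by
      obtain ⟨U, hU, hxU, -⟩ := exists_isAffineOpen_mem_and_subset (X := X) (x := x) (U := ⊤) trivial
      exact Set.mem_iUnion.2 ⟨⟨U, hU⟩, hxU⟩)
  refine ⟨t.sup k, fun m hm => le_bot_iff.mp ?_⟩
  refine Scheme.IdealSheafData.le_of_iSup_eq_top (fun U : t => U.1) ?_ ?_
  · refine top_le_iff.mp fun x _ => ?_
    have h1 := ht (Set.mem_univ x)
    simp only [Set.mem_iUnion] at h1
    obtain ⟨U, hU, hxU⟩ := h1
    exact TopologicalSpace.Opens.mem_iSup.mpr ⟨⟨U, hU⟩, hxU⟩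
  · intro U
    have h1 : k U.1 ≤ m := (Finset.le_sup U.2).trans hm
    have h2 := hk U.1 m h1
    rw [Scheme.IdealSheafData.ideal_pow]
    exact h2.le

/-- Nilpotent thickenings, for a power of two. -/
theorem of_pow_two_pow (hP : Rules P) {S : Scheme.{u}} [IsAffine S] [IsNoetherian S] [IsIntegral S]
    (k : ℕ) : ∀ {X : Scheme.{u}} (f : X ⟶ S) [IsProper f] (N : X.IdealSheafData), N ^ (2 ^ k) = ⊥ →
      P (N.subschemeι ≫ f) → P f := by
  induction k with
  | zero =>
    intro X f _ N hN h
    rw [pow_zero, pow_one] at hN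
    subst hN
    exact hP.iso _ f h
  | succ k ih =>
    intro X f _ N hN h
    refine ih f (N ^ 2) (by rw [← pow_mul, ← pow_succ']; exact hN) ?_
    have hle : N ^ 2 ≤ N := by
      rw [pow_two]
      intro U
      exact Ideal.mul_le_left
    let i := Scheme.IdealSheafData.inclusion hle
    have hi : i ≫ (N ^ 2).subschemeι = N.subschemeι := Scheme.IdealSheafData.inclusion_subschemeι hle
    have hcl : IsClosedImmersion i := by
      have : IsClosedImmersion (i ≫ (N ^ 2).subschemeι) := by rw [hi]; infer_instance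
      exact IsClosedImmersion.of_comp i (N ^ 2).subschemeι
    refine hP.nil i ((N ^ 2).subschemeι ≫ f) ?_ ?_
    · have h1 : IsClosedImmersion (i ≫ (N ^ 2).subschemeι) := by rw [hi]; infer_instance
      have h2 := comap_ker_comp i (N ^ 2).subschemeι
      rw [hi, Scheme.IdealSheafData.ker_subschemeι] at h2
      rw [← h2, ← comap_pow]
      have h3 := comap_ker_self (N ^ 2).subschemeι
      rwa [Scheme.IdealSheafData.ker_subschemeι] at h3
    · rw [← Category.assoc, hi]
      exact h

/-- Closed immersions which are surjective. -/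
theorem of_surjective (hP : Rules P) {S : Scheme.{u}} [IsAffine S] [IsNoetherian S] [IsIntegral S]
    {X₀ X : Scheme.{u}} (i : X₀ ⟶ X) [IsClosedImmersion i] [Surjective i] (f : X ⟶ S) [IsProper f]
    (h : P (i ≫ f)) : P f := by
  have hN : IsLocallyNoetherian X := LocallyOfFiniteType.isLocallyNoetherian f
  have hc : CompactSpace X := QuasiCompact.compactSpace_of_compactSpace f
  have hN' : IsNoetherian X := {}
  obtain ⟨k, hk⟩ := exists_pow_eq_bot i.ker (ideal_le_nilradical i)
  refine of_pow_two_pow hP k f i.ker (hk _ Nat.lt_two_pow_self.le) ?_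
  have hci : IsClosedImmersion (i.toImage ≫ i.imageι) := by rw [Scheme.Hom.toImage_imageι]; infer_instance
  have hiso : IsIso i.toImage := inferInstance
  have h1 : i = i.toImage ≫ i.imageι := (Scheme.Hom.toImage_imageι i).symm
  have h2 : P (i.toImage ≫ i.imageι ≫ f) := by
    rw [← Category.assoc, ← h1]
    exact h
  exact hP.iso i.toImage (i.imageι ≫ f) h2

end Groth.Agent.Pic13.H595.GeoBasic
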