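import Groth.Agent.Pic13.H595.GeoDev
import Groth.Agent.S0021
import Groth.Agent.S0414

/-!
# Relative geometric induction: changes of the base
-/

set_option autoImplicit false
universe u

open CategoryTheory CategoryTheory.Limits AlgebraicGeometry TopologicalSpace

namespace Groth.Agent.Pic13.H595.GeoCov

open Groth.Agent.Sga4h.GeoDim Groth.Agent.Pic13.H595.GeoMeas Groth.Agent.Pic13.H595.Geo
  Groth.Agent.Pic13.H595.GeoBasic

/-- A finite flat surjective morphism onto an affine open. -/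
structure Cov {S' S : Scheme.{u}} (s : S' ⟶ S) : Prop where
  int : IsIntegral S'
  ex : ∃ (W : Scheme.{u}) (h : S' ⟶ W) (j : W ⟶ S), h ≫ j = s ∧ IsOpenImmersion j ∧ IsAffine W ∧
    IsFinite h ∧ Flat h ∧ Surjective h

variable {P : MorphismProperty Scheme.{u}}

theorem Cov.isAffine {S' S : Scheme.{u}} {s : S' ⟶ S} (hs : Cov s) : IsAffine S' := by
  obtain ⟨W, h, j, rfl, hj, hW, hh, hfl, hsj⟩ := hs.ex
  exact isAffine_of_isAffineHom h

theorem Cov.isNoetherian {S' S : Scheme.{u}} {s : S' ⟶ S} (hs : Cov s) [IsNoetherian S] :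
    IsNoetherian S' := by
  obtain ⟨W, h, j, rfl, hj, hW, hh, hfl, hsj⟩ := hs.ex
  have h1 : IsLocallyNoetherian W := isLocallyNoetherian_of_isOpenImmersion j
  have h2 : IsLocallyNoetherian S' := LocallyOfFiniteType.isLocallyNoetherian h
  have h3 : IsAffine S' := isAffine_of_isAffineHom h
  exact {}

theorem Cov.trdegAt_eq_zero {S' S : Scheme.{u}} {s : S' ⟶ S} (hs : Cov s) (x : S') :
    trdegAt s x = 0 := by
  obtain ⟨W, h, j, rfl, hj, hW, hh, hfl, hsj⟩ := hs.ex
  rw [trdegAt_comp, trdegAt_eq_zero_of_isPreimmersion j, trdegAt_eq_zero_of_isFinite h, add_zero]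

theorem Cov.trdegAt_eq_zero' {X' X S' S : Scheme.{u}} {s : S' ⟶ S} (hs : Cov s) {g : X' ⟶ X}
    {f' : X' ⟶ S'} {f : X ⟶ S} (sq : IsPullback g f' f s) (x : X') : trdegAt g x = 0 := by
  obtain ⟨W, h, j, rfl, hj, hW, hh, hfl, hsj⟩ := hs.ex
  have sq' := IsPullback.of_hasPullback f j
  let l : X' ⟶ pullback f j := pullback.lift g (f' ≫ h) (by rw [Category.assoc]; exact sq.w)
  have hl1 : l ≫ pullback.fst f j = g := pullback.lift_fst _ _ _
  have hl2 : l ≫ pullback.snd f j = f' ≫ h := pullback.lift_snd _ _ _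
  have sq2 : IsPullback l f' (pullback.snd f j) h := by
    refine IsPullback.of_right (h₁₂ := pullback.fst f j) ?_ hl2 sq'
    rw [hl1]; exact sq
  have : IsFinite l := MorphismProperty.of_isPullback (P := @IsFinite) sq2.flip hh
  rw [← hl1, trdegAt_comp, trdegAt_eq_zero_of_isPreimmersion (pullback.fst f j),
    trdegAt_eq_zero_of_isFinite l, add_zero]

theorem Cov.map_genericPoint {S' S : Scheme.{u}} {s : S' ⟶ S} (hs : Cov s) [IrreducibleSpace S]
    [IrreducibleSpace S'] : s (genericPoint S') = genericPoint S := by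
  obtain ⟨W, h, j, rfl, hj, hW, hh, hfl, hsj⟩ := hs.ex
  have hne : Nonempty W := ⟨h (genericPoint S')⟩
  have hirr : IrreducibleSpace W := h.surjective.irreducibleSpace h.continuous
  have h1 : h (genericPoint S') = genericPoint W :=
    ((genericPoint_spec S').image h.continuous).eq (by
      rw [Set.image_univ, h.surjective.range_eq, closure_univ]; exact genericPoint_spec W)
  rw [Scheme.Hom.comp_apply, h1, genericPoint_eq_of_isOpenImmersion j]

theorem GDimLT.cov {X' X S' S : Scheme.{u}} {s : S' ⟶ S} (hs : Cov s) [IrreducibleSpace S]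
    [IrreducibleSpace S'] {g : X' ⟶ X} {f' : X' ⟶ S'} {f : X ⟶ S} (sq : IsPullback g f' f s) {n : ℕ}
    (h : GDimLT f n) : GDimLT f' n :=
  h.square g f' s sq.w (hs.trdegAt_eq_zero' sq) hs.trdegAt_eq_zero hs.map_genericPoint

/-- `P` descends along the base changes `Cov`. -/
theorem of_cov (hP : Rules P) {X' X S' S : Scheme.{u}} [IsAffine S] [IsNoetherian S] [IsIntegral S]
    {s : S' ⟶ S} (hs : Cov s) {g : X' ⟶ X} {f' : X' ⟶ S'} {f : X ⟶ S} [IsProper f]
    (sq : IsPullback g f' f s) (h : P f') : P f := by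
  have hSN := hs.isNoetherian
  have hSA := hs.isAffine
  have hSI := hs.int
  obtain ⟨W, h', j, rfl, hj, hW, hh, hfl, hsj⟩ := hs.ex
  -- replace `W` by an open subscheme
  let V : S.Opens := j.opensRange
  let e : W ≅ V := j.isoOpensRange
  have he : e.hom ≫ V.ι = j := Scheme.Hom.isoOpensRange_hom_ι j
  have hVA : IsAffine V := .of_isIso e.inv
  have hVN : IsNoetherian V := { }
  have hne : Nonempty S' := ⟨genericPoint S'⟩
  have hVne : Nonempty V := ⟨e.hom (h' hne.some)⟩
  have hVI : IsIntegral V := isIntegral_of_isOpenImmersion V.ι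
  have hprop : IsProper (pullback.snd f V.ι) := inferInstance
  let p : S' ⟶ V := h' ≫ e.hom
  have hpf : IsFinite p := inferInstanceAs (IsFinite (h' ≫ e.hom))
  have hpfl : Flat p := inferInstanceAs (Flat (h' ≫ e.hom))
  have hps : Surjective p := inferInstanceAs (Surjective (h' ≫ e.hom))
  refine hP.shrink f V ⟨_, hVne.some.2⟩ hVA (hP.ext (pullback.snd f V.ι) p ?_)
  have sq' : IsPullback (pullback.fst (pullback.snd f V.ι) p ≫ pullback.fst f V.ι)
      (pullback.snd (pullback.snd f V.ι) p) f (h' ≫ j) := by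
    have h1 := (IsPullback.of_hasPullback (pullback.snd f V.ι) p).paste_horiz
      (IsPullback.of_hasPullback f V.ι)
    have h2 : p ≫ V.ι = h' ≫ j := by rw [← he, ← Category.assoc]
    rwa [h2] at h1
  have hpr2 : IsProper (pullback.snd (pullback.snd f V.ι) p) := inferInstance
  refine hP.iso (sq.isoIsPullback _ _ sq').hom _ ?_
  rw [IsPullback.isoIsPullback_hom_snd]
  exact h

/-- A finite surjective morphism from an integral scheme to an open subscheme becomes a base change `Cov` after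
shrinking. -/
theorem exists_cov {Y' S : Scheme.{u}} [IsNoetherian S] [IsIntegral S] (V : S.Opens)
    (hV : (V : Set S).Nonempty) (g : Y' ⟶ V) [IsIntegral Y'] [IsFinite g] [Surjective g] :
    ∃ (S₁ : Scheme.{u}) (o : S₁ ⟶ Y'), IsOpenImmersion o ∧ Cov (o ≫ g ≫ V.ι) := by
  have hne : Nonempty V := ⟨⟨_, hV.some_mem⟩⟩
  have hVI : IsIntegral V := isIntegral_of_isOpenImmersion V.ι
  obtain ⟨U, hU, hfl, -⟩ := Groth.Agent.S0414.result g
  obtain ⟨v, hv⟩ := hU.nonempty
  obtain ⟨W, hW, hvW, hWU⟩ := exists_isAffineOpen_mem_and_subset (U := U) (x := v) hv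
  have hWA : IsAffine W := hW
  have hfl2 : Flat (pullback.snd (g ∣_ U) (V.toScheme.homOfLE hWU)) := inferInstance
  have sq1 : IsPullback ((g ⁻¹ᵁ U).ι) (g ∣_ U) g U.ι := (isPullback_morphismRestrict g U).flip
  have sq2 := (IsPullback.of_hasPullback (g ∣_ U) (V.toScheme.homOfLE hWU)).paste_horiz sq1
  rw [Scheme.homOfLE_ι] at sq2
  have hfin : IsFinite (pullback.snd (g ∣_ U) (V.toScheme.homOfLE hWU)) :=
    MorphismProperty.of_isPullback (P := @IsFinite) sq2 inferInstance
  have hsur : Surjective (pullback.snd (g ∣_ U) (V.toScheme.homOfLE hWU)) :=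
    MorphismProperty.of_isPullback (P := @Surjective) sq2 inferInstance
  have hop : IsOpenImmersion (pullback.fst (g ∣_ U) (V.toScheme.homOfLE hWU) ≫ (g ⁻¹ᵁ U).ι) :=
    MorphismProperty.of_isPullback (P := @IsOpenImmersion) sq2.flip inferInstance
  refine ⟨_, pullback.fst (g ∣_ U) (V.toScheme.homOfLE hWU) ≫ (g ⁻¹ᵁ U).ι, hop, ?_, ?_⟩
  · obtain ⟨x, -⟩ := hsur.surj ⟨v, hvW⟩
    have : Nonempty ↑(pullback (g ∣_ U) (V.toScheme.homOfLE hWU)) := ⟨x⟩
    exact isIntegral_of_isOpenImmersion (pullback.fst (g ∣_ U) (V.toScheme.homOfLE hWU) ≫ (g ⁻¹ᵁ U).ι)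
  · refine ⟨W, pullback.snd (g ∣_ U) (V.toScheme.homOfLE hWU), W.ι ≫ V.ι, ?_, inferInstance, hWA, hfin, hfl2,
      hsur⟩
    rw [← Category.assoc, ← sq2.w, Category.assoc]

/-- A finite étale surjective morphism from an irreducible affine scheme to an open subscheme is a base change
`Cov`. -/
theorem cov_of_flat {Y' S : Scheme.{u}} [IsNoetherian S] (V : S.Opens) (g : Y' ⟶ V)
    [IsIntegral Y'] [IsAffine Y'] [IsFinite g] [Flat g] [Surjective g] : Cov (g ≫ V.ι) := by
  have hVc : CompactSpace V :=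
    isCompact_iff_compactSpace.mp (TopologicalSpace.NoetherianSpace.isCompact (V : Set S))
  have hVN : IsNoetherian V := { }
  have hVA : IsAffine V := Groth.Agent.S0021.result g
  exact ⟨inferInstance, V, g, V.ι, rfl, inferInstance, hVA, inferInstance, inferInstance, inferInstance⟩

end Groth.Agent.Pic13.H595.GeoCov
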