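import Groth.Agent.Pic13.H595.GeoUnion
import Groth.Agent.Fga.IntegralSub

/-!
# Relative geometric induction: dévissage to integral closed subschemes
-/

set_option autoImplicit false
universe u

open CategoryTheory CategoryTheory.Limits AlgebraicGeometry TopologicalSpace

namespace Groth.Agent.Pic13.H595.GeoDev

open Groth.Agent.Sga4h.GeoDim Groth.Agent.Pic13.H595.GeoMeas Groth.Agent.Pic13.H595.Geo
  Groth.Agent.Pic13.H595.GeoUnion Groth.Agent.Pic13.H17.Patch

variable {P : MorphismProperty Scheme.{u}} {S : Scheme.{u}} [IsAffine S] [IsNoetherian S] [IsIntegral S]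

/-- The union of two closed subschemes with small intersection. -/
theorem of_union (hP : Rules P) {n : ℕ}
    (ih : ∀ {Y : Scheme.{u}} (g : Y ⟶ S) [IsProper g], GDimLT g n → P g)
    {X : Scheme.{u}} (f : X ⟶ S) [IsProper f] (a b : X.IdealSheafData) (hab : a ⊓ b = ⊥)
    (hdim : ∀ x : X, x ∈ a.support → x ∈ b.support → f x = genericPoint S →
      trdegAt f x < (n : Cardinal.{u}))
    (h1 : P (a.subschemeι ≫ f)) (h2 : P (b.subschemeι ≫ f)) : P f := by
  let π : a.subscheme ⨿ b.subscheme ⟶ X := coprod.desc a.subschemeι b.subschemeι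
  have e1 : coprod.inl ≫ π = a.subschemeι := coprod.inl_desc _ _
  have e2 : coprod.inr ≫ π = b.subschemeι := coprod.inr_desc _ _
  have hc1 : IsClosedImmersion (coprod.inl ≫ π) := by rw [e1]; infer_instance
  have hc2 : IsClosedImmersion (coprod.inr ≫ π) := by rw [e2]; infer_instance
  have hk1 : (coprod.inl ≫ π).ker = a := by rw [e1, Scheme.IdealSheafData.ker_subschemeι]
  have hk2 : (coprod.inr ≫ π).ker = b := by rw [e2, Scheme.IdealSheafData.ker_subschemeι]
  have hπ : IsFinite π := inferInstanceAs (IsFinite (coprod.desc a.subschemeι b.subschemeι))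
  have hpatch : IsPatch π (a ⊔ b) := by
    have h := isPatch_union π (coprod.inl (C := Scheme)) (coprod.inr (C := Scheme))
      (fun W z z' => coprod_ext W z z') (by rw [hk1, hk2, hab])
    rwa [hk1, hk2] at h
  refine hP.sq π f (a ⊔ b) hpatch (Or.inl hπ) ?_ ?_ ?_
  · refine ih _ fun z hz => ?_
    rw [trdegAt_comp, trdegAt_eq_zero_of_isPreimmersion (a ⊔ b).subschemeι, add_zero]
    have hz1 : (a ⊔ b).subschemeι z ∈ ((a ⊔ b).support : Set X) := by
      rw [← Scheme.IdealSheafData.range_subschemeι]; exact ⟨z, rfl⟩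
    rw [Scheme.IdealSheafData.support_sup] at hz1
    exact hdim _ hz1.1 hz1.2 hz
  · refine ih _ fun z hz => ?_
    rw [trdegAt_comp, trdegAt_comp, trdegAt_eq_zero_of_isPreimmersion ((a ⊔ b).comap π).subschemeι,
      trdegAt_eq_zero_of_isFinite π, add_zero, add_zero]
    have hz1 : ((a ⊔ b).comap π).subschemeι z ∈ (((a ⊔ b).comap π).support : Set _) := by
      rw [← Scheme.IdealSheafData.range_subschemeι]; exact ⟨z, rfl⟩
    rw [Scheme.IdealSheafData.support_comap, Scheme.IdealSheafData.support_sup] at hz1
    exact hdim _ hz1.1 hz1.2 hz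
  · have e3 : π ≫ f = coprod.desc (a.subschemeι ≫ f) (b.subschemeι ≫ f) := coprod.desc_comp _ _ _
    rw [e3]
    exact hP.coprod _ _ h1 h2

/-- `P` for all reduced closed subschemes with a given underlying set. -/
def PC (P : MorphismProperty Scheme.{u}) {Y S : Scheme.{u}} (f : Y ⟶ S) (C : Set Y) : Prop :=
  ∀ (Z : Scheme.{u}) (i : Z ⟶ Y) [IsClosedImmersion i] [IsReduced Z], Set.range i = C → P (i ≫ f)

theorem PC.union (hP : Rules P) {n : ℕ}
    (ih : ∀ {Y : Scheme.{u}} (g : Y ⟶ S) [IsProper g], GDimLT g n → P g)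
    {Y : Scheme.{u}} (f : Y ⟶ S) [IsProper f] (A B : Set Y) (hA : IsClosed A) (hB : IsClosed B)
    (hdim : ∀ x ∈ A, x ∈ B → f x = genericPoint S → trdegAt f x < (n : Cardinal.{u}))
    (h1 : PC P f A) (h2 : PC P f B) : PC P f (A ∪ B) := by
  intro Z i _ _ hr
  let A' : Closeds Z := ⟨i ⁻¹' A, hA.preimage i.continuous⟩
  let B' : Closeds Z := ⟨i ⁻¹' B, hB.preimage i.continuous⟩
  have hAB : A' ⊔ B' = ⊤ := by
    refine top_le_iff.mp fun x _ => ?_
    have hx : i x ∈ A ∪ B := hr ▸ ⟨x, rfl⟩
    exact hx
  have hrange : ∀ (C : Closeds Z) (D : Set Y) (hD : D ⊆ Set.range i) (hC : (C : Set Z) = i ⁻¹' D),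
      Set.range ((Scheme.IdealSheafData.vanishingIdeal C).subschemeι ≫ i) = D := by
    intro C D hD hC
    rw [Scheme.Hom.comp_base, TopCat.coe_comp, Set.range_comp,
      Scheme.IdealSheafData.range_subschemeι, Scheme.IdealSheafData.coe_support_vanishingIdeal, hC,
      Set.image_preimage_eq_inter_range]
    exact Set.inter_eq_left.mpr hD
  refine of_union hP ih (i ≫ f) (Scheme.IdealSheafData.vanishingIdeal A')
    (Scheme.IdealSheafData.vanishingIdeal B') ?_ ?_ ?_ ?_
  · rw [← Scheme.IdealSheafData.vanishingIdeal_sup, hAB, Scheme.IdealSheafData.vanishingIdeal_top,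
      Scheme.nilradical_eq_bot]
  · intro x hxA hxB hx
    rw [trdegAt_comp, trdegAt_eq_zero_of_isPreimmersion i, add_zero]
    have hxA' : x ∈ (A' : Set Z) := by
      rw [← Scheme.IdealSheafData.coe_support_vanishingIdeal]; exact hxA
    have hxB' : x ∈ (B' : Set Z) := by
      rw [← Scheme.IdealSheafData.coe_support_vanishingIdeal]; exact hxB
    exact hdim _ hxA' hxB' hx
  · have : IsReduced (Scheme.IdealSheafData.vanishingIdeal A').subscheme :=
      Ega1.ReducedSub.isReduced_subscheme_vanishingIdeal A'
    rw [← Category.assoc]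
    exact h1 _ _ (hrange A' A (hr ▸ Set.subset_union_left) rfl)
  · have : IsReduced (Scheme.IdealSheafData.vanishingIdeal B').subscheme :=
      Ega1.ReducedSub.isReduced_subscheme_vanishingIdeal B'
    rw [← Category.assoc]
    exact h2 _ _ (hrange B' B (hr ▸ Set.subset_union_right) rfl)

theorem PC.empty (hP : Rules P) {Y : Scheme.{u}} (f : Y ⟶ S) : PC P f ∅ := by
  intro Z i _ _ hr
  have : IsEmpty Z := Set.range_eq_empty_iff.mp hr
  exact hP.empty _

omit [IsAffine S] [AlgebraicGeometry.IsNoetherian S] [AlgebraicGeometry.IsIntegral S] in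
theorem PC.singleton {Y : Scheme.{u}} (f : Y ⟶ S)
    (H : ∀ {T : Scheme.{u}} (i : T ⟶ Y) [IsClosedImmersion i] [IsIntegral T], P (i ≫ f)) (t : Y) :
    PC P f (closure {t}) := by
  intro Z i _ _ hr
  have hcl : Topology.IsClosedEmbedding i := i.isClosedEmbedding
  have hirr : IrreducibleSpace Z := by
    have h1 : IsIrreducible (Set.range i) := by
      rw [hr]; exact isIrreducible_singleton.closure
    have := Subtype.irreducibleSpace h1
    exact hcl.isEmbedding.toHomeomorph.irreducibleSpace_iff.mpr this
  have hint : IsIntegral Z := isIntegral_of_irreducibleSpace_of_isReduced _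
  exact H i

/-- Dévissage to integral closed subschemes. -/
theorem of_integral (hP : Rules P) {n : ℕ}
    (ih : ∀ {Y : Scheme.{u}} (g : Y ⟶ S) [IsProper g], GDimLT g n → P g)
    {Y : Scheme.{u}} (f : Y ⟶ S) [IsProper f] (hn : GDimLT f (n + 1))
    (H : ∀ {T : Scheme.{u}} (i : T ⟶ Y) [IsClosedImmersion i] [IsIntegral T], P (i ≫ f)) : P f := by
  classical
  have hN : IsLocallyNoetherian Y := LocallyOfFiniteType.isLocallyNoetherian f
  have hc : CompactSpace Y := QuasiCompact.compactSpace_of_compactSpace f
  have hN' : IsNoetherian Y := {}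
  have hfin : (irreducibleComponents Y).Finite :=
    TopologicalSpace.NoetherianSpace.finite_irreducibleComponents
  have : Finite (irreducibleComponents Y) := hfin
  have hgen : ∀ Z : irreducibleComponents Y, ∃ ξ : Y, IsGenericPoint ξ Z.1 := fun Z =>
    QuasiSober.sober Z.2.1 (isClosed_of_mem_irreducibleComponents _ Z.2)
  choose g hg using hgen
  have key : ∀ T : Finset (irreducibleComponents Y), PC P f (closure (g '' T)) := by
    intro T
    induction T using Finset.induction_on with
    | empty =>
      rw [Finset.coe_empty, Set.image_empty, closure_empty]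
      exact PC.empty hP f
    | insert t T ht ih' =>
      rw [Finset.coe_insert, Set.image_insert_eq, Set.insert_eq, closure_union]
      refine PC.union hP ih f _ _ isClosed_closure isClosed_closure ?_ (PC.singleton f H _) ih'
      intro x hx1 hx2 hx
      have hs : g t ⤳ x := specializes_iff_mem_closure.mpr hx1
      have hne : g t ≠ x := by
        rintro rfl
        have hfi : (g '' (T : Set (irreducibleComponents Y))).Finite := (Finset.finite_toSet T).image g
        rw [← Set.biUnion_of_singleton (g '' (T : Set (irreducibleComponents Y))),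
          hfi.closure_biUnion] at hx2
        simp only [Set.mem_image, Set.mem_iUnion] at hx2
        obtain ⟨y, ⟨t', ht', rfl⟩, hx2⟩ := hx2
        have h3 : t.1 ⊆ t'.1 := by
          rw [← (hg t).def, ← (hg t').def]
          exact closure_minimal (Set.singleton_subset_iff.mpr hx2) isClosed_closure
        have h4 : t'.1 ⊆ t.1 := t.2.2 t'.2.1 h3
        have h5 : t = t' := Subtype.ext (h3.antisymm h4)
        exact ht (h5 ▸ ht')
      have hf := map_eq_of_specializes f hs hx
      exact nat_lt_of_lt (trdegAt_lt_aleph0 f _) (trdegAt_lt_aleph0 f _)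
        (trdegAt_lt_of_specializes f hs hne (hf.trans hx.symm)) (hn _ hf)
  let _ : Fintype (irreducibleComponents Y) := Fintype.ofFinite _
  have hall : closure (g '' (Finset.univ : Finset (irreducibleComponents Y))) = Set.univ := by
    refine Set.eq_univ_iff_forall.mpr fun x => ?_
    let Z : irreducibleComponents Y :=
      ⟨irreducibleComponent x, irreducibleComponent_mem_irreducibleComponents x⟩
    have h2 : g Z ⤳ x := (hg Z).specializes mem_irreducibleComponent
    have h3 : g Z ∈ closure (g '' (Finset.univ : Finset (irreducibleComponents Y))) :=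
      subset_closure ⟨Z, by simp, rfl⟩
    exact h2.mem_closed isClosed_closure h3
  let r : (Scheme.IdealSheafData.vanishingIdeal (⊤ : Closeds Y)).subscheme ⟶ Y :=
    (Scheme.IdealSheafData.vanishingIdeal (⊤ : Closeds Y)).subschemeι
  have hr : Set.range r = Set.univ := by
    rw [Scheme.IdealSheafData.range_subschemeι, Scheme.IdealSheafData.coe_support_vanishingIdeal]
    rfl
  have hred : IsReduced (Scheme.IdealSheafData.vanishingIdeal (⊤ : Closeds Y)).subscheme :=
    Ega1.ReducedSub.isReduced_subscheme_vanishingIdeal ⊤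
  have : Surjective r := ⟨Set.range_eq_univ.mp hr⟩
  exact GeoBasic.of_surjective hP r f (key _ _ r (hr.trans hall.symm))

end Groth.Agent.Pic13.H595.GeoDev
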