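import Groth.Agent.Pic13.H595.GeoMain
import Groth.Agent.Pic13.H557.GeoInt
import Groth.Agent.Pic13.H557.GeoSpread
import Groth.Agent.Pic13.H17.BlowPatch

/-!
# The relative geometric induction, final form

`geo`: a property of morphisms satisfying the rules `Geo.Rules` holds for all proper morphisms to affine Noetherian
integral schemes.
-/

set_option autoImplicit false
universe u

open CategoryTheory CategoryTheory.Limits AlgebraicGeometry TopologicalSpace

namespace Groth.Agent.Pic13.H595.GeoFinal

open Groth.Agent.Pic13.H595.Geo Groth.Agent.Pic13.H595.GeoInt Groth.Agent.Pic13.H595.GeoMain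

/-- **The relative geometric induction.** -/
theorem geo {P : MorphismProperty Scheme.{u}} (hP : Rules P) {X S : Scheme.{u}} [IsAffine S] [IsNoetherian S]
    [IsIntegral S] (f : X ⟶ S) [IsProper f] : P f := by
  refine main_of hP ?_ ?_ ?_ ?_ f
  · intro X S _ _ f hred hirr T i _ _ hmax hη
    exact Groth.Agent.Pic13.H557.GeoInt.gi_of_component f hred hirr i hmax hη
  · intro X X' S _ _ _ f b U hU _ h
    exact Groth.Agent.Pic13.H557.GeoInt.gi_of_birational f b U hU h
  · intro X S _ f _ _ h
    obtain ⟨V, h1, h2, h3⟩ := Groth.Agent.Pic13.H557.GeoSpread.exists_geometricallyIntegral f h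
    exact ⟨V, h1, h2, (h3 V le_rfl).1, (h3 V le_rfl).2.2⟩
  · intro X X' _ b _ J hb
    obtain ⟨n₀, -, h⟩ := Groth.Agent.Pic13.H17.BlowPatch.isPatch_of_isBlowUp hb
    exact ⟨n₀, h⟩

end Groth.Agent.Pic13.H595.GeoFinal
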