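import Groth.Agent.Pic13.H595.GeoBasic
import Groth.Agent.Pic13.H17.ChowBlow
import Groth.Agent.Ega2.AmpleUnit
import Groth.Agent.Divis.EffCartier
import Groth.Agent.Fga.FSGeo

/-!
# Relative geometric induction: integral schemes with geometrically integral generic fibre
-/

set_option autoImplicit false
universe u

open CategoryTheory CategoryTheory.Limits AlgebraicGeometry TopologicalSpace

namespace Groth.Agent.Pic13.H595.GeoInt

open Groth.Agent.Sga4h.GeoDim Groth.Agent.Pic13.H595.GeoMeas Groth.Agent.Pic13.H595.Geo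
  Groth.Agent.Pic13.H595.GeoBasic Groth.Agent.Pic13.H17.Patch

/-- The generic fibre is geometrically integral. -/
abbrev GI {X S : Scheme.{u}} (f : X ⟶ S) [IrreducibleSpace S] : Prop :=
  GeometricallyIntegral (f.fiberToSpecResidueField (genericPoint S))

/-- Input (B): birational invariance of `GI`. -/
def BirInv : Prop :=
  ∀ {X X' S : Scheme.{u}} [IsIntegral S] [IsIntegral X] [IsIntegral X'] (f : X ⟶ S) (b : X' ⟶ X)
    (U : X.Opens), (U : Set X).Nonempty → IsIso (b ∣_ U) → GI f → GI (b ≫ f)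

/-- Input (C): spreading out. -/
def SpreadOut : Prop :=
  ∀ {X S : Scheme.{u}} [IsIntegral S] (f : X ⟶ S) [LocallyOfFiniteType f] [QuasiCompact f], GI f →
    ∃ V : S.Opens, (V : Set S).Nonempty ∧ IsAffineOpen V ∧ Flat (f ∣_ V) ∧ GeometricallyIntegral (f ∣_ V)

/-- Input (G2): the blow-up squares of high powers of the centre are patching squares. -/
def BlowPatch : Prop :=
  ∀ {X X' : Scheme.{u}} [IsNoetherian X] (b : X' ⟶ X) [IsProper b] (J : X.IdealSheafData), BlowUp.IsBlowUp b J →
    ∃ n₀ : ℕ, ∀ n, n₀ ≤ n → IsPatch b (J ^ n)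

variable {P : MorphismProperty Scheme.{u}}

/-- The projective case. -/
theorem of_projective (hP : Rules P) (hC : SpreadOut.{u}) {X S : Scheme.{u}} [IsAffine S] [IsNoetherian S]
    [IsIntegral S] (f : X ⟶ S) [IsProper f] (hgi : GI f) (n : ℕ) (i : X ⟶ CohB1.ProjSpaceOver n S)
    [IsClosedImmersion i] (hi : i ≫ CohB1.ProjSpaceOver.toBase n S = f) : P f := by
  obtain ⟨V, hVne, hVA, hfl, hg⟩ := hC f hgi
  have : Nonempty V := ⟨⟨_, hVne.some_mem⟩⟩
  have hVA' : IsAffine V := hVA
  have hVN : IsNoetherian V := { }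
  have hVI : IsIntegral V := isIntegral_of_isOpenImmersion V.ι
  refine hP.shrink f V hVne hVA ?_
  have sq := IsPullback.of_hasPullback f V.ι
  have sq0 := (isPullback_morphismRestrict f V).flip
  -- flatness and geometric integrality
  have e : pullback.snd f V.ι = (sq.isoIsPullback _ _ sq0).hom ≫ (f ∣_ V) := by simp
  have hfl' : Flat (pullback.snd f V.ι) := by rw [e]; infer_instance
  have hg' : GeometricallyIntegral (pullback.snd f V.ι) := by
    have : MorphismProperty.IsStableUnderBaseChange @GeometricallyIntegral.{u} := inferInstance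
    have : MorphismProperty.RespectsIso @GeometricallyIntegral.{u} :=
      MorphismProperty.IsStableUnderBaseChange.respectsIso
    rw [e]
    exact (MorphismProperty.cancel_left_of_respectsIso @GeometricallyIntegral _ _).mpr hg
  -- the closed immersion
  have sq1 := Groth.Agent.Fga.FSGeo.isPullback_projMap (n := n) V.ι
  let i' : pullback f V.ι ⟶ CohB1.ProjSpaceOver n V :=
    sq1.lift (pullback.fst f V.ι ≫ i) (pullback.snd f V.ι) (by rw [Category.assoc, hi]; exact sq.w)
  have h1 : i' ≫ FGA.projMap n V.ι = pullback.fst f V.ι ≫ i := sq1.lift_fst _ _ _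
  have h2 : i' ≫ CohB1.ProjSpaceOver.toBase n V = pullback.snd f V.ι := sq1.lift_snd _ _ _
  have sq2 : IsPullback i' (pullback.fst f V.ι) (FGA.projMap n V.ι) i := by
    refine (IsPullback.of_right (h₁₂ := CohB1.ProjSpaceOver.toBase n V)
      (h₂₂ := CohB1.ProjSpaceOver.toBase n S) (v₁₃ := V.ι) ?_ h1 sq1.flip)
    rw [h2, hi]
    exact sq.flip
  have hcl : IsClosedImmersion i' := MorphismProperty.of_isPullback (P := @IsClosedImmersion) sq2.flip ‹_›
  exact hP.base (pullback.snd f V.ι) n i' h2

/-- The integral case. -/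
theorem of_gi (hP : Rules P) (hB : BirInv.{u}) (hC : SpreadOut.{u}) (hG : BlowPatch.{u})
    {S : Scheme.{u}} [IsAffine S] [IsNoetherian S] [IsIntegral S] {n : ℕ}
    (ih : ∀ {Y : Scheme.{u}} (g : Y ⟶ S) [IsProper g], GDimLT g n → P g)
    {X : Scheme.{u}} (f : X ⟶ S) [IsProper f] [IsIntegral X] (hn : GDimLT f (n + 1)) (hgi : GI f) : P f := by
  have hN : IsLocallyNoetherian X := LocallyOfFiniteType.isLocallyNoetherian f
  have hc : CompactSpace X := QuasiCompact.compactSpace_of_compactSpace f
  have hN' : IsNoetherian X := {}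
  obtain ⟨𝓘, X', b, m, j, h𝓘, hb, hft, hint, hbp, hj, hjf⟩ :=
    Groth.Agent.Pic13.H17.ChowBlow.exists_blowUp
      ⟨_, Groth.Agent.Ega2.Weight.isAmple_structureModule S⟩ f
  obtain ⟨n₀, hn₀⟩ := hG b 𝓘 hb
  let I := 𝓘 ^ (n₀ + 1)
  have hI : IsPatch b I := hn₀ _ (Nat.le_succ _)
  have hcart : BlowUp.IsEffCartierIdeal (I.comap b) := by
    rw [Groth.Agent.Divis.IdealComap.comap_pow]
    exact Groth.Agent.Divis.EffCartier.isEff_pow hb.1 _
  have hsupp : I.support = 𝓘.support := Scheme.IdealSheafData.support_pow_succ _ _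
  have hξ : genericPoint X ∉ I.support := by
    intro h
    apply h𝓘
    rw [← Scheme.IdealSheafData.support_eq_top_iff, ← hsupp]
    refine top_le_iff.mp fun x _ => ?_
    exact ((genericPoint_spec X).specializes (Set.mem_univ x)).mem_closed I.support.isClosed h
  let U : X.Opens := I.support.compl
  have hU : genericPoint X ∈ U := hξ
  have hiso : IsIso (b ∣_ U) := hI.iso
  have hgen : b (genericPoint X') ∈ U := by
    obtain ⟨y, hy⟩ := (b ∣_ U).surjective ⟨genericPoint X, hU⟩
    have h1 : ((b ⁻¹ᵁ U : X'.Opens) : Set X').Nonempty := ⟨y.1, y.2⟩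
    exact ((genericPoint_spec X').mem_open_set_iff (b ⁻¹ᵁ U).2).mpr (by simpa using h1)
  have htr : trdegAt b (genericPoint X') = 0 := trdegAt_eq_zero_of_isIso_restrict b U _ hgen
  have hn' : GDimLT (b ≫ f) (n + 1) := by
    refine GDimLT.of_irreducible (b ≫ f) fun h => ?_
    rw [trdegAt_comp, htr, add_zero]
    exact hn _ h
  refine hP.sq b f I hI (Or.inr hcart) ?_ ?_ ?_
  · refine ih _ (hn.drop I.subschemeι (trdegAt_eq_zero_of_isPreimmersion _) fun z _ => ?_)
    refine ⟨genericPoint X, (genericPoint_spec X).specializes (Set.mem_univ _), fun h => hξ ?_⟩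
    have hz1 : I.subschemeι z ∈ (I.support : Set X) := by
      rw [← Scheme.IdealSheafData.range_subschemeι]; exact ⟨z, rfl⟩
    rw [h]
    exact hz1
  · refine ih _ (hn'.drop (I.comap b).subschemeι (trdegAt_eq_zero_of_isPreimmersion _) fun z _ => ?_)
    refine ⟨genericPoint X', (genericPoint_spec X').specializes (Set.mem_univ _), fun h => ?_⟩
    have hz1 : (I.comap b).subschemeι z ∈ ((I.comap b).support : Set X') := by
      rw [← Scheme.IdealSheafData.range_subschemeι]; exact ⟨z, rfl⟩
    rw [← h, Scheme.IdealSheafData.support_comap] at hz1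
    exact hgen hz1
  · exact of_projective hP hC (b ≫ f) (hB f b U ⟨_, hU⟩ hiso hgi) m j hjf

end Groth.Agent.Pic13.H595.GeoInt
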