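import Groth.Agent.Pic13.H595.GeoInt
import Groth.Agent.Pic13.H595.GeoCov
import Groth.Agent.S1357
import Groth.Agent.S1358
import Groth.Agent.S0119

/-!
# The relative geometric induction
-/

set_option autoImplicit false
universe u

open CategoryTheory CategoryTheory.Limits AlgebraicGeometry TopologicalSpace

namespace Groth.Agent.Pic13.H595.GeoMain

open Groth.Agent.Sga4h.GeoDim Groth.Agent.Pic13.H595.GeoMeas Groth.Agent.Pic13.H595.Geo
  Groth.Agent.Pic13.H595.GeoBasic Groth.Agent.Pic13.H595.GeoInt Groth.Agent.Pic13.H595.GeoCov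
  Groth.Agent.Pic13.H595.GeoDev

/-- Input (A): components of a geometrically reduced generic fibre with geometrically irreducible components. -/
def CompGI : Prop :=
  ∀ {X S : Scheme.{u}} [IsIntegral S] [NoetherianSpace X] (f : X ⟶ S),
    GeometricallyReduced (f.fiberToSpecResidueField (genericPoint S)) →
    (∀ (Z : Set (f.fiber (genericPoint S))) (hZ : Z ∈ irreducibleComponents (f.fiber (genericPoint S))),
      GeometricallyIrreducible ((Scheme.IdealSheafData.vanishingIdeal
        (⟨Z, isClosed_of_mem_irreducibleComponents Z hZ⟩ : Closeds _)).subschemeι ≫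
          f.fiberToSpecResidueField (genericPoint S))) →
    ∀ {T : Scheme.{u}} (i : T ⟶ X) [IsClosedImmersion i] [IsIntegral T],
      Set.range i ∈ irreducibleComponents X →
      (i ≫ f) (genericPoint T) = genericPoint S → GI (i ≫ f)

variable {P : MorphismProperty Scheme.{u}}

/-- Integral closed subschemes which are not components. -/
theorem drop_of_not_component {X S T : Scheme.{u}} [IsIntegral S] (f : X ⟶ S) [LocallyOfFiniteType f]
    {n : ℕ} (hn : GDimLT f (n + 1)) (i : T ⟶ X) [IsClosedImmersion i] [IsIntegral T]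
    (h : Set.range i ∉ irreducibleComponents X) : GDimLT (i ≫ f) n := by
  have hr : Set.range i = closure {i (genericPoint T)} := by
    have h1 := (genericPoint_spec T).image i.continuous
    rw [Set.image_univ, i.isClosedEmbedding.isClosed_range.closure_eq] at h1
    exact h1.def.symm
  rw [hr] at h
  refine hn.drop i (trdegAt_eq_zero_of_isPreimmersion i) fun t _ => ?_
  have hc := irreducibleComponent_mem_irreducibleComponents (i (genericPoint T))
  obtain ⟨ξ, hξ⟩ := QuasiSober.sober hc.1 (isClosed_of_mem_irreducibleComponents _ hc)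
  have h1 : ξ ⤳ i (genericPoint T) := hξ.specializes mem_irreducibleComponent
  have h2 : i (genericPoint T) ⤳ i t :=
    ((genericPoint_spec T).specializes (Set.mem_univ t)).map i.continuous
  refine ⟨ξ, h1.trans h2, fun he => h ?_⟩
  have h3 : i (genericPoint T) ⤳ ξ := he ▸ h2
  have h4 : ξ = i (genericPoint T) := (h1.antisymm h3).eq
  rw [← h4, hξ.def]
  exact hc

/-- The step of the induction, once the generic fibre is geometrically reduced with geometrically irreducible
components. -/
theorem step_of_geometric (hP : Rules P) (hA : CompGI.{u}) (hB : BirInv.{u}) (hC : SpreadOut.{u})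
    (hG : BlowPatch.{u}) {S : Scheme.{u}} [IsAffine S] [IsNoetherian S] [IsIntegral S] {n : ℕ}
    (ih : ∀ {Y : Scheme.{u}} (g : Y ⟶ S) [IsProper g], GDimLT g n → P g)
    {X : Scheme.{u}} (f : X ⟶ S) [IsProper f] (hn : GDimLT f (n + 1))
    (hred : GeometricallyReduced (f.fiberToSpecResidueField (genericPoint S)))
    (hirr : ∀ (Z : Set (f.fiber (genericPoint S))) (hZ : Z ∈ irreducibleComponents (f.fiber (genericPoint S))),
      GeometricallyIrreducible ((Scheme.IdealSheafData.vanishingIdeal
        (⟨Z, isClosed_of_mem_irreducibleComponents Z hZ⟩ : Closeds _)).subschemeι ≫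
          f.fiberToSpecResidueField (genericPoint S))) : P f := by
  have hN : IsLocallyNoetherian X := LocallyOfFiniteType.isLocallyNoetherian f
  have hc : CompactSpace X := QuasiCompact.compactSpace_of_compactSpace f
  have hN' : IsNoetherian X := {}
  refine of_integral hP ih f hn fun {T} i _ _ => ?_
  by_cases h1 : (i ≫ f) (genericPoint T) = genericPoint S
  · by_cases h2 : Set.range i ∈ irreducibleComponents X
    · exact of_gi hP hB hC hG ih (i ≫ f) (hn.precomp i (trdegAt_eq_zero_of_isPreimmersion i))
        (hA f hred hirr i h2 h1)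
    · exact ih _ (drop_of_not_component f hn i h2)
  · exact of_gdimLT_zero hP (i ≫ f) (GDimLT.of_irreducible (i ≫ f) fun h => absurd h h1)

theorem surjective_of_isUnivHomeo {X Y : Scheme.{u}} (f : X ⟶ Y) (h : FlatMor.IsUnivHomeo f) : Surjective f :=
  ⟨(MorphismProperty.universally_le _ _ h : IsHomeomorph f).surjective⟩

/-- The relative geometric induction, with the measure. -/
theorem main_aux (hP : Rules P) (hA : CompGI.{u}) (hB : BirInv.{u}) (hC : SpreadOut.{u})
    (hG : BlowPatch.{u}) (n : ℕ) : ∀ {S : Scheme.{u}} [IsAffine S] [IsNoetherian S] [IsIntegral S]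
    {X : Scheme.{u}} (f : X ⟶ S) [IsProper f], GDimLT f n → P f := by
  induction n with
  | zero => intro S _ _ _ X f _ hn; exact of_gdimLT_zero hP f hn
  | succ n ih =>
    intro S _ _ _ X f _ hn
    -- first change of base: the reduction becomes geometrically reduced
    obtain ⟨V, Y', g, X', r, hY', hVne, hY'A, hgf, hgh, hr, hrs, hX'r, -, -, -, -, hred⟩ :=
      Groth.Agent.S1358.result f
    have hgs : Surjective g := surjective_of_isUnivHomeo g hgh
    obtain ⟨S₁, o, ho, hcov⟩ := exists_cov V hVne g
    have hS₁I : IsIntegral S₁ := hcov.int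
    have hS₁A : IsAffine S₁ := hcov.isAffine
    have hS₁N : IsNoetherian S₁ := hcov.isNoetherian
    let q : X' ⟶ Y' := r ≫ pullback.snd f (g ≫ V.ι)
    let f₂ : pullback q o ⟶ S₁ := pullback.snd q o
    let f₁ : pullback f (o ≫ g ≫ V.ι) ⟶ S₁ := pullback.snd f (o ≫ g ≫ V.ι)
    refine of_cov hP hcov (IsPullback.of_hasPullback f (o ≫ g ≫ V.ι)) ?_
    -- the closed immersion
    let c : pullback f (o ≫ g ≫ V.ι) ⟶ pullback f (g ≫ V.ι) :=
      pullback.lift (pullback.fst _ _) (pullback.snd _ _ ≫ o) (by rw [Category.assoc]; exact pullback.condition)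
    have hc1 : c ≫ pullback.fst f (g ≫ V.ι) = pullback.fst _ _ := pullback.lift_fst _ _ _
    have hc2 : c ≫ pullback.snd f (g ≫ V.ι) = pullback.snd _ _ ≫ o := pullback.lift_snd _ _ _
    have sqc : IsPullback c (pullback.snd f (o ≫ g ≫ V.ι)) (pullback.snd f (g ≫ V.ι)) o := by
      refine IsPullback.of_right (h₁₂ := pullback.fst f (g ≫ V.ι)) (h₂₂ := g ≫ V.ι) (v₁₃ := f) ?_ hc2
        (IsPullback.of_hasPullback f (g ≫ V.ι))
      rw [hc1]
      exact IsPullback.of_hasPullback f (o ≫ g ≫ V.ι)
    let r' : pullback q o ⟶ pullback f (o ≫ g ≫ V.ι) :=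
      sqc.lift (pullback.fst q o ≫ r) (pullback.snd q o) (by rw [Category.assoc]; exact pullback.condition)
    have hr1 : r' ≫ c = pullback.fst q o ≫ r := sqc.lift_fst _ _ _
    have hr2 : r' ≫ pullback.snd f (o ≫ g ≫ V.ι) = f₂ := sqc.lift_snd _ _ _
    have sqr : IsPullback (pullback.fst q o) r' r c := by
      refine IsPullback.of_bot (v₂₁ := pullback.snd f (o ≫ g ≫ V.ι)) (v₂₂ := pullback.snd f (g ≫ V.ι))
        (h₃₁ := o) ?_ hr1.symm sqc
      rw [hr2]
      exact IsPullback.of_hasPullback q o
    have hr'c : IsClosedImmersion r' := MorphismProperty.of_isPullback (P := @IsClosedImmersion) sqr hr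
    have hr's : Surjective r' := MorphismProperty.of_isPullback (P := @Surjective) sqr hrs
    refine of_surjective hP r' (pullback.snd f (o ≫ g ≫ V.ι)) ?_
    rw [hr2]
    have hf₂p : IsProper f₂ := by rw [← hr2]; infer_instance
    have hn₁ : GDimLT (pullback.snd f (o ≫ g ≫ V.ι)) (n + 1) :=
      GDimLT.cov hcov (IsPullback.of_hasPullback f (o ≫ g ≫ V.ι)) hn
    have hn₂ : GDimLT f₂ (n + 1) := by
      rw [← hr2]
      exact hn₁.precomp r' (trdegAt_eq_zero_of_isPreimmersion r')
    have hred₂ : GeometricallyReduced (f₂.fiberToSpecResidueField (genericPoint S₁)) := by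
      have hη : o (genericPoint S₁) = genericPoint Y' := genericPoint_eq_of_isOpenImmersion o
      have h1 := isPullback_fiberToSpecResidueField_of_isPullback (IsPullback.of_hasPullback q o) (genericPoint S₁)
      refine MorphismProperty.of_isPullback (P := @GeometricallyReduced) h1 ?_
      rw [hη]
      exact hred
    -- second change of base: the components of the generic fibre become geometrically irreducible
    obtain ⟨V₂, Y₂, g₂, hY₂, hV₂ne, hY₂A, hg₂s, hg₂f, hg₂e, hirr⟩ := Groth.Agent.S1357.result f₂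
    have hV₂ne' : Nonempty V₂ := ⟨⟨_, hV₂ne.some_mem⟩⟩
    have hV₂I : IsIntegral V₂ := isIntegral_of_isOpenImmersion V₂.ι
    have hV₂N : IsLocallyNoetherian V₂ := inferInstance
    have hY₂s : ∀ x : Y₂, _root_.IsReduced (Y₂.presheaf.stalk x) := fun x =>
      (Groth.Agent.S0119.result g₂ x).2 inferInstance
    have hY₂r : IsReduced Y₂ := isReduced_of_isReduced_stalk Y₂
    have hY₂I : IsIntegral Y₂ := isIntegral_of_irreducibleSpace_of_isReduced _
    have hcov₂ : Cov (g₂ ≫ V₂.ι) := cov_of_flat V₂ g₂
    have hY₂N : IsNoetherian Y₂ := hcov₂.isNoetherian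
    refine of_cov hP hcov₂ (IsPullback.of_hasPullback f₂ (g₂ ≫ V₂.ι)) ?_
    refine step_of_geometric hP hA hB hC hG (fun g _ h => ih g h) _
      (GDimLT.cov hcov₂ (IsPullback.of_hasPullback f₂ (g₂ ≫ V₂.ι)) hn₂) ?_ hirr
    have h1 := isPullback_fiberToSpecResidueField_of_isPullback
      (IsPullback.of_hasPullback f₂ (g₂ ≫ V₂.ι)) (genericPoint Y₂)
    refine MorphismProperty.of_isPullback (P := @GeometricallyReduced) h1 ?_
    rw [hcov₂.map_genericPoint]
    exact hred₂

/-- The relative geometric induction, from its inputs. -/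
theorem main_of (hP : Rules P) (hA : CompGI.{u}) (hB : BirInv.{u}) (hC : SpreadOut.{u})
    (hG : BlowPatch.{u}) {S : Scheme.{u}} [IsAffine S] [IsNoetherian S] [IsIntegral S]
    {X : Scheme.{u}} (f : X ⟶ S) [IsProper f] : P f := by
  have hN : IsLocallyNoetherian X := LocallyOfFiniteType.isLocallyNoetherian f
  have hc : CompactSpace X := QuasiCompact.compactSpace_of_compactSpace f
  have hN' : IsNoetherian X := {}
  obtain ⟨n, hn⟩ := exists_gdimLT f
  exact main_aux hP hA hB hC hG n f hn

end Groth.Agent.Pic13.H595.GeoMain
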