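import Groth.Agent.Pic13.H595.GeoBasic
import Groth.Agent.Pic13.H557.PatchFin
import Mathlib.AlgebraicGeometry.Limits
import Mathlib.AlgebraicGeometry.Morphisms.Finite

/-!
# Relative geometric induction: the union of two closed subschemes
-/

set_option autoImplicit false
universe u

open CategoryTheory CategoryTheory.Limits AlgebraicGeometry

namespace Groth.Agent.Pic13.H595.GeoUnion

open Groth.Agent.Sga4h.GeoDim Groth.Agent.Pic13.H595.GeoMeas Groth.Agent.Pic13.H595.Geo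
  Groth.Agent.Divis.IdealComap Groth.Agent.Pic13.H17.Patch Groth.Agent.Pic13.H557.PatchFin

/-- Sections over a binary coproduct are determined by their restrictions. -/
theorem coprod_ext {Y₁ Y₂ : Scheme.{u}} (W : (Y₁ ⨿ Y₂).Opens) (z z' : Γ(Y₁ ⨿ Y₂, W))
    (h₁ : (coprod.inl (C := Scheme) : Y₁ ⟶ Y₁ ⨿ Y₂).app W z = (coprod.inl (C := Scheme) : Y₁ ⟶ Y₁ ⨿ Y₂).app W z')
    (h₂ : (coprod.inr (C := Scheme) : Y₂ ⟶ Y₁ ⨿ Y₂).app W z = (coprod.inr (C := Scheme) : Y₂ ⟶ Y₁ ⨿ Y₂).app W z') :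
    z = z' := by
  have hinj : Function.Injective (Scheme.coprodPresheafObjIso W).hom :=
    ((ConcreteCategory.isIso_iff_bijective (Scheme.coprodPresheafObjIso W).hom).mp inferInstance).1
  apply hinj
  refine Concrete.limit_ext (pair Γ(Y₁, coprod.inl (C := Scheme) ⁻¹ᵁ W) Γ(Y₂, coprod.inr (C := Scheme) ⁻¹ᵁ W)) _ _ ?_
  rintro ⟨⟨⟩⟩
  · have h := fun t => congr($(Scheme.coprodPresheafObjIso_hom_fst W) t)
    refine (h z).trans (h₁.trans (h z').symm)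
  · have h := fun t => congr($(Scheme.coprodPresheafObjIso_hom_snd W) t)
    refine (h z).trans (h₂.trans (h z').symm)

section

variable {X' X Y₁ Y₂ : Scheme.{u}} (π : X' ⟶ X) (g₁ : Y₁ ⟶ X') (g₂ : Y₂ ⟶ X')

theorem app_surj {Y : Scheme.{u}} (g : Y ⟶ X') [IsClosedImmersion (g ≫ π)] (U : X.affineOpens)
    (y : Γ(Y, g ⁻¹ᵁ π ⁻¹ᵁ U.1)) : ∃ s : Γ(X, U.1), g.app (π ⁻¹ᵁ U.1) (π.app U.1 s) = y := by
  have h := Scheme.Hom.app_surjective (g ≫ π) U.1 U.2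
  obtain ⟨s, hs⟩ := h y
  refine ⟨s, ?_⟩
  rw [Scheme.Hom.comp_app] at hs
  exact hs

theorem mem_ker_iff {Y : Scheme.{u}} (g : Y ⟶ X') [QuasiCompact (g ≫ π)] (U : X.affineOpens)
    (c : Γ(X, U.1)) : c ∈ (g ≫ π).ker.ideal U ↔ g.app (π ⁻¹ᵁ U.1) (π.app U.1 c) = 0 := by
  rw [Scheme.Hom.ker_apply, RingHom.mem_ker, Scheme.Hom.comp_app]
  rfl

/-- The patching square of a union of two closed subschemes. -/
theorem isPatch_union [IsClosedImmersion (g₁ ≫ π)] [IsClosedImmersion (g₂ ≫ π)] [IsAffineHom π]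
    (hext : ∀ (W : X'.Opens) (z z' : Γ(X', W)), g₁.app W z = g₁.app W z' → g₂.app W z = g₂.app W z' → z = z')
    (hab : (g₁ ≫ π).ker ⊓ (g₂ ≫ π).ker = ⊥) : IsPatch π ((g₁ ≫ π).ker ⊔ (g₂ ≫ π).ker) := by
  have hinj : ∀ (U : X.affineOpens) (c : Γ(X, U.1)), π.app U.1 c = 0 → c = 0 := by
    intro U c hc
    have h1 : c ∈ ((g₁ ≫ π).ker ⊓ (g₂ ≫ π).ker).ideal U := by
      rw [Scheme.IdealSheafData.ideal_inf]
      refine ⟨(mem_ker_iff π g₁ U c).mpr ?_, (mem_ker_iff π g₂ U c).mpr ?_⟩ <;> rw [hc, map_zero]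
    rw [hab] at h1
    exact h1
  have hcond : ∀ (U : X.affineOpens), ∀ c ∈ ((g₁ ≫ π).ker ⊔ (g₂ ≫ π).ker).ideal U,
      ∀ x : Γ(X', π ⁻¹ᵁ U.1), ∃ c' ∈ ((g₁ ≫ π).ker ⊔ (g₂ ≫ π).ker).ideal U,
        π.app U.1 c' = x * π.app U.1 c := by
    intro U c hc x
    obtain ⟨α, hα, β, hβ, rfl⟩ := Submodule.mem_sup.mp hc
    obtain ⟨s, hs⟩ := app_surj π g₁ U (g₁.app _ x)
    obtain ⟨t, ht⟩ := app_surj π g₂ U (g₂.app _ x)
    have hα' := (mem_ker_iff π g₁ U α).mp hα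
    have hβ' := (mem_ker_iff π g₂ U β).mp hβ
    refine ⟨t * α + s * β, Submodule.mem_sup.mpr ⟨t * α, Ideal.mul_mem_left _ _ hα, s * β,
      Ideal.mul_mem_left _ _ hβ, rfl⟩, ?_⟩
    refine hext _ _ _ ?_ ?_
    · rw [map_add, map_mul, map_mul, map_add, map_mul, map_mul, hα', hs, map_mul, map_add, map_add, hα']
      ring
    · rw [map_add, map_mul, map_mul, map_add, map_mul, map_mul, hβ', ht, map_mul, map_add, map_add, hβ']
      ring
  refine isPatch_of_isAffineHom π _ ?_ (fun U c _ h => hinj U c h) hcond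
  refine isIso_morphismRestrict_of_affine π _ fun U hU => ?_
  have h1 := (ideal_eq_top_iff _ U).mpr hU
  rw [isIso_morphismRestrict_iff_isIso_app π U.2, ConcreteCategory.isIso_iff_bijective]
  refine ⟨(injective_iff_map_eq_zero (π.app U.1).hom).mpr (hinj U), fun x => ?_⟩
  obtain ⟨c', -, hc'⟩ := hcond U 1 (by rw [h1]; trivial) x
  exact ⟨c', by rw [hc', map_one, mul_one]⟩

end

end Groth.Agent.Pic13.H595.GeoUnion
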